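import Groth.Agent.H15Site.RshriekInd.Main
import Groth.Agent.H15Site.Shriek.FilteredColim
import Groth.Agent.H16Derived.AcyclicSums

/-!
# `Rf_!` and direct sums of torsion objects bounded below by a common bound
-/

set_option autoImplicit false
set_option linter.style.haveILetI false
set_option linter.unusedSectionVars false
set_option linter.overlappingInstances false
set_option backward.isDefEq.respectTransparency false
set_option backward.isDefEq.respectTransparency.types false

universe w u

open CategoryTheory CategoryTheory.Limits AlgebraicGeometry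
open scoped Groth.Agent.H18Et Groth.Agent.H18Et.CohColim

namespace Groth.Agent.H15Site.RshriekInd

open H16Derived

attribute [local instance] HasDerivedCategory.standard Groth.Agent.H18Et.pull_preservesFiniteLimits

/-- Preservation of a colimit transported along a transformation invertible at the objects involved. -/
theorem preservesColimit_comp_of_app_iso {A B C : Type*} [Category A] [Category B] [Category C] (L : A ⥤ B)
    (G : B ⥤ C) (H : A ⥤ C) (β : H ⟶ L ⋙ G) {J : Type*} [Category J] (D : J ⥤ A) (c : Cocone D) (hc : IsColimit c)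
    [PreservesColimit D L] [PreservesColimit D H] (h : ∀ j, IsIso (β.app (D.obj j))) (hpt : IsIso (β.app c.pt)) :
    PreservesColimit (D ⋙ L) G := by
  haveI := h
  haveI := hpt
  let α : D ⋙ H ≅ (D ⋙ L) ⋙ G :=
    NatIso.ofComponents (fun j => asIso (β.app (D.obj j))) (fun f => β.naturality (D.map f))
  refine preservesColimit_of_preserves_colimit_cocone (isColimitOfPreserves L hc)
    ((IsColimit.equivOfNatIsoOfIso α (H.mapCocone c) (G.mapCocone (L.mapCocone c)) ?_)
      (isColimitOfPreserves H hc))
  refine Cocone.ext (asIso (β.app c.pt)) fun j => ?_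
  dsimp [α]
  erw [Category.assoc, β.naturality (c.ι.app j), IsIso.inv_hom_id_assoc]
  rfl

theorem preservesColimit_of_diagram_iso {A B : Type*} [Category A] [Category B] {ι : Type*} {K K' : ι → A}
    (e : ∀ i, K' i ≅ K i) (G : A ⥤ B) [PreservesColimit (Discrete.functor K') G] :
    PreservesColimit (Discrete.functor K) G :=
  preservesColimit_of_iso_diagram G (Discrete.natIso fun i => e i.as : Discrete.functor K' ≅ Discrete.functor K)

/-- As `AcyclicSums.preservesCoproducts_of_filtered`, with independent universes. -/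
theorem preservesCoproducts_of_filtered {A : Type*} [Category A] [Abelian A]
    [HasFilteredColimitsOfSize.{w, w} A] [HasCoproducts.{w} A] {B : Type*} [Category B] [Abelian B] (G : A ⥤ B) [G.Additive]
    [PreservesFilteredColimitsOfSize.{w, w} G] (J : Type w) : PreservesColimitsOfShape (Discrete J) G := by
  classical
  haveI : PreservesFiniteCoproducts G := inferInstance
  haveI : ∀ f : J → A, PreservesColimit (Discrete.functor f) G := fun f => by
    let hF := isColimitOfPreserves G (CoproductsFromFiniteFiltered.isColimitFiniteSubproductsCocone f)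
    let hS := fun S : Finset (Discrete J) =>
      isColimitOfPreserves G (colimit.isColimit (Discrete.functor fun x : S => (Discrete.functor f).obj x.1))
    let t : ∀ s : Cocone (Discrete.functor f ⋙ G),
        Cocone (CoproductsFromFiniteFiltered.liftToFinsetObj (Discrete.functor f) ⋙ G) := fun s =>
      { pt := s.pt
        ι :=
          { app := fun S => (hS S).desc
              (Cocone.mk s.pt (Discrete.natTrans fun x => s.ι.app x.as.1))
            naturality := fun S T g => (hS S).hom_ext fun ⟨x⟩ => by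
              show G.map _ ≫ G.map _ ≫ _ = G.map _ ≫ _ ≫ 𝟙 _
              rw [Category.comp_id, ← G.map_comp_assoc]
              erw [colimit.ι_desc]
              exact ((hS T).fac _ _).trans ((hS S).fac (Cocone.mk s.pt (Discrete.natTrans fun x => s.ι.app x.as.1)) ⟨x⟩).symm } }
    refine preservesColimit_of_preserves_colimit_cocone (colimit.isColimit _) ?_
    refine { desc := fun s => hF.desc (t s), fac := fun s j => ?_, uniq := fun s m hm => ?_ }
    · let S : Finset (Discrete J) := {j}
      refine Eq.trans ?_ ((hS S).fac (Cocone.mk s.pt (Discrete.natTrans fun x => s.ι.app x.as.1))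
        ⟨⟨j, Finset.mem_singleton_self j⟩⟩)
      refine Eq.trans ?_ (congrArg (_ ≫ ·) (hF.fac (t s) S))
      show G.map _ ≫ _ = G.map _ ≫ G.map _ ≫ _
      rw [← G.map_comp_assoc]
      erw [colimit.ι_desc]
      rfl
    · refine hF.hom_ext fun S => ?_
      rw [hF.fac]
      refine (hS S).hom_ext fun ⟨x⟩ => ?_
      refine Eq.trans ?_ ((hS S).fac (Cocone.mk s.pt (Discrete.natTrans fun x => s.ι.app x.as.1)) ⟨x⟩).symm
      refine Eq.trans ?_ (hm x.1)
      show G.map _ ≫ G.map _ ≫ _ = _
      rw [← G.map_comp_assoc]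
      erw [colimit.ι_desc]
      rfl
  exact preservesColimitsOfShape_of_discrete G

/-- `Q` preserves coproducts over index types of `Type u`. -/
theorem preservesCoproducts_Q {W : Scheme.{u}} (ι : Type u) :
    PreservesColimitsOfShape (Discrete ι) (DerivedCategory.Q (C := EtCoh.Ab W)) :=
  haveI := QCoprod.preservesColimitsOfShape_Q (A := EtCoh.Ab W) (ULift.{u + 1} ι)
  preservesColimitsOfShape_of_equiv (Discrete.equivalence Equiv.ulift) _

theorem preservesCoproducts_LQ {W : Scheme.{u}} (ι : Type u) :
    PreservesColimitsOfShape (Discrete ι)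
      (HomotopyCategory.quotient (EtCoh.Ab W) (ComplexShape.up ℤ) ⋙ DerivedCategory.Qh) :=
  haveI := preservesCoproducts_Q (W := W) ι
  preservesColimitsOfShape_of_natIso (DerivedCategory.quotientCompQhIso (EtCoh.Ab W)).symm

variable {X Y : Scheme.{u}}

theorem preservesColimit_mapHC {C D : Type*} [Category C] [Abelian C] [Category D] [Abelian D] {J : Type*}
    [Category J] [HasColimitsOfShape J C] (F : C ⥤ D) [F.Additive] [PreservesColimitsOfShape J F]
    (T : J ⥤ CochainComplex C ℤ) :
    PreservesColimit T (F.mapHomologicalComplex (ComplexShape.up ℤ)) :=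
  ⟨fun {d} hd => ⟨HomologicalComplex.isColimitOfEval _ _ fun p => IsColimit.ofIsoColimit
      (isColimitOfPreserves F (isColimitOfPreserves (HomologicalComplex.eval C (ComplexShape.up ℤ) p) hd))
      (Iso.refl _)⟩⟩

/-- An exact functor with preserved coproducts preserves them on derived categories. -/
theorem preservesColimit_mapDerived {X Y : Scheme.{u}} (F : EtCoh.Ab X ⥤ EtCoh.Ab Y) [F.Additive]
    [PreservesFiniteLimits F] [PreservesFiniteColimits F] {ι : Type u}
    [PreservesColimitsOfShape (Discrete ι) F] (K : ι → DCoh.DEt X) :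
    PreservesColimit (Discrete.functor K) F.mapDerivedCategory := by
  let L : ι → CochainComplex (EtCoh.Ab X) ℤ := fun i => DerivedCategory.Q.objPreimage (K i)
  haveI := preservesCoproducts_Q (W := X) ι
  haveI := preservesCoproducts_Q (W := Y) ι
  haveI := preservesColimit_mapHC F (Discrete.functor L)
  haveI : PreservesColimit (Discrete.functor L ⋙ DerivedCategory.Q) F.mapDerivedCategory :=
    preservesColimit_comp_of_app_iso DerivedCategory.Q F.mapDerivedCategory
      (F.mapHomologicalComplex (ComplexShape.up ℤ) ⋙ DerivedCategory.Q) F.mapDerivedCategoryFactors.inv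
      (Discrete.functor L) (colimit.cocone _) (colimit.isColimit _) (fun _ => inferInstance) inferInstance
  exact preservesColimit_of_iso_diagram F.mapDerivedCategory
    (Discrete.natIso fun i => DerivedCategory.Q.objObjPreimageIso (K i.as) :
      Discrete.functor L ⋙ DerivedCategory.Q ≅ Discrete.functor K)

/-- Coproducts of torsion sheaves are torsion. -/
theorem isTorsion_sigma {ι : Type u} (G : ι → EtCoh.Ab X) (hG : ∀ i, EtCoh.IsTorsion (G i)) :
    EtCoh.IsTorsion (∐ G) := by
  rw [H18Et.Coh.isTorsion_iff_stalk]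
  intro Ω _ _ ξ p
  haveI := ((Scheme.pointSmallEtale ξ).skyscraperSheafAdjunction
    (A := AddCommGrpCat.{u + 1})).leftAdjoint_preservesColimits
  let e := PreservesCoproduct.iso (EtCoh.stalk ξ) G
  obtain ⟨s, a, hp⟩ := Shriek.coprod_elem (fun i => (EtCoh.stalk ξ).obj (G i)) (e.hom p)
  have hk : ∀ t : Finset ι, IsOfFinAddOrder (∑ i ∈ t, Sigma.ι (fun i => (EtCoh.stalk ξ).obj (G i)) i (a i)) := by
    intro t
    classical
    induction t using Finset.induction_on with
    | empty => rw [Finset.sum_empty]; exact IsOfFinAddOrder.zero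
    | insert i t hi ih =>
      rw [Finset.sum_insert hi]
      exact ((AddCommute.all _ _).isOfFinAddOrder_add
        (AddMonoidHom.isOfFinAddOrder (Sigma.ι (fun i => (EtCoh.stalk ξ).obj (G i)) i).hom
          ((H18Et.Coh.isTorsion_iff_stalk _).1 (hG i) Ω ξ (a i))) ih)
  have h2 : IsOfFinAddOrder (e.hom p) := hp ▸ hk s
  have h3 := AddMonoidHom.isOfFinAddOrder e.inv.hom h2
  rwa [show e.inv.hom (e.hom p) = p from ConcreteCategory.congr_hom e.hom_inv_id p] at h3

/-- Cohomology over a qcqs scheme commutes with coproducts. -/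
theorem preservesCoproducts_HF (W : Scheme.{u}) [CompactSpace ↥W] [QuasiSeparatedSpace ↥W] (n : ℕ)
    (ι : Type u) : PreservesColimitsOfShape (Discrete ι) (EtCoh.HF W n) := by
  haveI : PreservesFilteredColimitsOfSize.{u, u} (EtCoh.HF W n) :=
    ⟨fun J _ _ =>
      haveI : PreservesColimitsOfShape J (CategoryTheory.forget AddCommGrpCat.{u + 1}) :=
        (preservesFilteredColimitsOfSize_shrink (CategoryTheory.forget AddCommGrpCat.{u + 1})).preserves_filtered_colimits J
      H18Et.CohColim.preservesColimitsOfShape_HF n⟩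
  exact preservesCoproducts_of_filtered (EtCoh.HF W n) ι

/-- Coproducts of torsion acyclic sheaves are acyclic. -/
theorem isAcyclic_sigma (hbc : Shriek.StalkBC.{u}) (f : X ⟶ Y) [IsProper f] {ι : Type u}
    (G : ι → EtCoh.Ab X) (hG : ∀ i, EtCoh.IsTorsion (G i))
    (hac : ∀ i, AcyclicLES.IsAcyclic (EtCoh.push f) (G i)) :
    AcyclicLES.IsAcyclic (EtCoh.push f) (∐ G) := fun q hq => by
  refine H1DFun.isZero_of_stalks _ fun Ω _ _ ξ => ?_
  obtain ⟨e⟩ := hbc f ξ _ (isTorsion_sigma G hG) q
  suffices h : Subsingleton (EtCoh.H (pullback f ξ) ((EtCoh.pull (pullback.fst f ξ)).obj (∐ G)) q) from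
    @Equiv.subsingleton _ _ e.addCommGroupIsoToAddEquiv.toEquiv h
  haveI : (EtCoh.pull (pullback.fst f ξ)).IsLeftAdjoint := ⟨_, ⟨EtCoh.pullPushAdj _⟩⟩
  haveI : CompactSpace ↥(pullback f ξ) := QuasiCompact.compactSpace_of_compactSpace (pullback.snd f ξ)
  haveI : QuasiSeparatedSpace ↥(pullback f ξ) := quasiSeparatedSpace_of_quasiSeparated (pullback.snd f ξ)
  haveI := preservesCoproducts_HF (pullback f ξ) q ι
  let Φ := EtCoh.pull (pullback.fst f ξ) ⋙ EtCoh.HF (pullback f ξ) q
  haveI : PreservesColimit (Discrete.functor G) Φ := inferInstance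
  have hz : IsZero (Φ.obj (∐ G)) := by
    rw [IsZero.iff_id_eq_zero]
    refine (isColimitOfPreserves Φ (coproductIsCoproduct G)).hom_ext fun ⟨i⟩ => ?_
    refine IsZero.eq_of_src ?_ _ _
    obtain ⟨eᵢ⟩ := hbc f ξ _ (hG i) q
    haveI : Subsingleton (EtCoh.H (pullback f ξ) ((EtCoh.pull (pullback.fst f ξ)).obj (G i)) q) :=
      @Equiv.subsingleton _ _ eᵢ.addCommGroupIsoToAddEquiv.symm.toEquiv
        (AddCommGrpCat.subsingleton_of_isZero ((EtCoh.stalk ξ).map_isZero (hac i q hq)))
    exact @AddCommGrpCat.isZero_of_subsingleton _ this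
  exact AddCommGrpCat.subsingleton_of_isZero hz

theorem preservesCoproducts_push (f : X ⟶ Y) [IsProper f] (ι : Type u) :
    PreservesColimitsOfShape (Discrete ι) (EtCoh.push f) := by
  haveI := Shriek.preservesFilteredColimits f
  haveI : PreservesFilteredColimitsOfSize.{u, u} (EtCoh.push f) :=
    ⟨fun J _ _ => preservesColimitsOfShape_of_natIso
      ((Shriek.shriekIso f).symm ≪≫ Shriek.shriekPushIso f)⟩
  exact preservesCoproducts_of_filtered (EtCoh.push f) ι

/-- `Rf_*` commutes with direct sums of uniformly bounded below torsion objects. -/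
theorem preservesColimit_Rpush (hbc : Shriek.StalkBC.{u}) (f : X ⟶ Y) [IsProper f] [DCoh.HasRpushEt X f]
    {ι : Type u} (E : ι → DCoh.DEt X) (a : ℤ) (hE : ∀ i, (E i).IsGE a)
    (ht : ∀ i, ∀ n : ℤ, EtCoh.IsTorsion (DCoh.HDEt (E i) n)) :
    PreservesColimit (Discrete.functor E) (DCoh.RpushEt X f) := by
  choose M hM eM hMt hMac using fun i => haveI := hE i; BCMap.exists_torsion_resolution (E i) a (ht i)
  haveI : (EtCoh.push f).IsRightAdjoint := ⟨_, ⟨EtCoh.pullPushAdj f⟩⟩
  haveI := preservesCoproducts_push f ι
  haveI := preservesColimit_mapHC (EtCoh.push f) (Discrete.functor M)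
  let LA := HomotopyCategory.quotient (EtCoh.Ab X) (ComplexShape.up ℤ) ⋙ DerivedCategory.Qh
  let LB := HomotopyCategory.quotient (EtCoh.Ab Y) (ComplexShape.up ℤ) ⋙ DerivedCategory.Qh
  let MF := (EtCoh.push f).mapHomologicalComplex (ComplexShape.up ℤ)
  let α := (DCoh.pushEtKh X f).totalRightDerivedUnit DerivedCategory.Qh
    (HomotopyCategory.quasiIso (EtCoh.Ab X) (ComplexShape.up ℤ))
  let β : MF ⋙ LB ⟶ LA ⋙ DCoh.RpushEt X f :=
    { app := fun K => α.app ((HomotopyCategory.quotient _ _).obj K)
      naturality := fun K K' φ => α.naturality ((HomotopyCategory.quotient _ _).map φ) }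
  haveI : PreservesColimitsOfShape (Discrete ι) LA := preservesCoproducts_LQ ι
  haveI : PreservesColimitsOfShape (Discrete ι) LB := preservesCoproducts_LQ ι
  haveI : PreservesColimit (Discrete.functor M) (MF ⋙ LB) := inferInstance
  have hX : ∀ p : ℤ, (∐ M).X p ≅ ∐ fun i => (M i).X p := fun p =>
    PreservesCoproduct.iso (HomologicalComplex.eval (EtCoh.Ab X) (ComplexShape.up ℤ) p) M
  haveI : (∐ M).IsStrictlyGE a := by
    rw [CochainComplex.isStrictlyGE_iff]
    intro p hp
    refine IsZero.of_iso ?_ (hX p)
    rw [IsZero.iff_id_eq_zero]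
    exact Sigma.hom_ext _ _ fun i =>
      (haveI := hM i; CochainComplex.isZero_of_isStrictlyGE (M i) a p hp).eq_of_src _ _
  have h0 : IsIso (β.app (∐ M)) := BCMap.isIso_unit_of_acyclic (EtCoh.push f) (∐ M) a fun p q hq =>
    (isAcyclic_sigma hbc f (fun i => (M i).X p) (fun i => hMt i p)
      (fun i n hn => hMac i f p n hn) q hq).of_iso ((EtCoh.Rpush f q).mapIso (hX p))
  haveI : PreservesColimit (Discrete.functor M ⋙ LA) (DCoh.RpushEt X f) :=
    preservesColimit_comp_of_app_iso LA (DCoh.RpushEt X f) (MF ⋙ LB) β (Discrete.functor M)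
      (Cofan.mk _ (Sigma.ι M)) (coproductIsCoproduct M)
      (fun i => BCMap.isIso_unit_of_acyclic (EtCoh.push f) (M i.as) a fun p q hq => hMac i.as f p q hq) h0
  exact preservesColimit_of_iso_diagram (DCoh.RpushEt X f)
    (Discrete.natIso fun i => (DerivedCategory.quotientCompQhIso _).app (M i.as) ≪≫ (eM i.as).some :
      Discrete.functor M ⋙ LA ≅ Discrete.functor E)

end Groth.Agent.H15Site.RshriekInd
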