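import Groth.Agent.H15Site.BCMap.RshriekBound
import Groth.Agent.H15Site.Shriek.ProperLqf
import Groth.Agent.H15Site.Shriek.EtaleIso
import Groth.Agent.S3054
import Groth.Agent.S0157
import Groth.Agent.H15Site.BCMap.Main

/-!
# Derived direct images with proper support, objectwise

For torsion bounded below objects and given base change on stalks: `Rq_* j''_! = j_!` for `q` proper with
`j'' ≫ q = j`, exchange of `g_!` with proper direct images, independence of the compactification, and proper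
base change.
-/

set_option autoImplicit false
set_option linter.style.haveILetI false
set_option linter.unusedSectionVars false
set_option linter.overlappingInstances false
set_option backward.isDefEq.respectTransparency false
set_option backward.isDefEq.respectTransparency.types false

universe u

open CategoryTheory CategoryTheory.Limits AlgebraicGeometry
open scoped Groth.Agent.H18Et

namespace Groth.Agent.H15Site.RshriekInd

open H16Derived Shriek

attribute [local instance] HasDerivedCategory.standard Groth.Agent.H18Et.pull_preservesFiniteLimits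

/-- The unbounded direct image exists. -/
theorem hasRpushEt {X Y : Scheme.{u}} (f : X ⟶ Y) : DCoh.HasRpushEt X f := by
  haveI : (DCoh.pushEtKh X f).HasPointwiseRightDerivedFunctor
      (HomotopyCategory.quasiIso (EtCoh.Ab X) (ComplexShape.up ℤ)) :=
    RDerived.hasPointwiseRightDerivedFunctor_of_resolutions DerivedCategory.Qh _ _ fun M => by
      obtain ⟨I, hI, s, hs⟩ := FlatAdjD.exists_local M
      exact ⟨_, s, hs, fun K => CochainComplex.IsKInjective.Qh_map_bijective K I⟩
  exact inferInstanceAs ((DCoh.pushEtKh X f).HasRightDerivedFunctor _)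

attribute [local instance] hasRpushEt

section Mapped

variable {C D : Type*} [Category C] [Abelian C] [HasDerivedCategory C] [Category D] [Abelian D]
  [HasDerivedCategory D] (G : C ⥤ D) [G.Additive] [PreservesFiniteLimits G] [PreservesFiniteColimits G]

/-- An exact functor at the object of a complex. -/
noncomputable def mapQ (L : CochainComplex C ℤ) {E : DerivedCategory C} (e : DerivedCategory.Q.obj L ≅ E) :
    G.mapDerivedCategory.obj E ≅ DerivedCategory.Q.obj ((G.mapHomologicalComplex (ComplexShape.up ℤ)).obj L) :=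
  G.mapDerivedCategory.mapIso e.symm ≪≫ G.mapDerivedCategoryFactors.app L

theorem isGE_map (E : DerivedCategory C) (a : ℤ) [E.IsGE a] : (G.mapDerivedCategory.obj E).IsGE a :=
  (DerivedCategory.isGE_iff _ a).2 fun i hi => by
    obtain ⟨e⟩ := BCMap.nonempty_homology_mapDerivedCategory G E i
    exact (G.map_isZero (DerivedCategory.isZero_of_isGE E a i hi)).of_iso e

end Mapped

theorem isStrictlyGE_map {C D : Type*} [Category C] [Abelian C] [Category D] [Abelian D] (G : C ⥤ D) [G.Additive]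
    (L : CochainComplex C ℤ) (a : ℤ) [L.IsStrictlyGE a] :
    CochainComplex.IsStrictlyGE ((G.mapHomologicalComplex (ComplexShape.up ℤ)).obj L) a := by
  rw [CochainComplex.isStrictlyGE_iff]
  exact fun i hi => G.map_isZero (CochainComplex.isZero_of_isStrictlyGE L a i hi)

/-- A natural isomorphism on complexes. -/
noncomputable def complexIso {C D : Type*} [Category C] [Abelian C] [Category D] [Abelian D] {G G' : C ⥤ D}
    [G.Additive] [G'.Additive] (e : G ≅ G') (L : CochainComplex C ℤ) :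
    (G.mapHomologicalComplex (ComplexShape.up ℤ)).obj L ≅ (G'.mapHomologicalComplex (ComplexShape.up ℤ)).obj L :=
  HomologicalComplex.Hom.isoOfComponents (fun i => e.app (L.X i)) (fun i j _ => (e.hom.naturality (L.d i j)).symm)

/-- `Rf_*` at a bounded below complex of acyclic sheaves. -/
theorem nonempty_Rpush_Q {X Y : Scheme.{u}} (f : X ⟶ Y) [DCoh.HasRpushEt X f] (M : CochainComplex (EtCoh.Ab X) ℤ)
    (a : ℤ) [M.IsStrictlyGE a] (hM : ∀ i, AcyclicLES.IsAcyclic (EtCoh.push f) (M.X i)) {E : DCoh.DEt X}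
    (e : DerivedCategory.Q.obj M ≅ E) :
    Nonempty ((DCoh.RpushEt X f).obj E ≅
      DerivedCategory.Q.obj (((EtCoh.push f).mapHomologicalComplex (ComplexShape.up ℤ)).obj M)) := by
  haveI : (EtCoh.push f).IsRightAdjoint := ⟨_, ⟨EtCoh.pullPushAdj f⟩⟩
  haveI := BCMap.isIso_unit_of_acyclic (EtCoh.push f) M a hM
  let β := (DCoh.pushEtKh X f).totalRightDerivedUnit DerivedCategory.Qh
    (HomotopyCategory.quasiIso (EtCoh.Ab X) (ComplexShape.up ℤ))
  let P : HomotopyCategory (EtCoh.Ab X) (ComplexShape.up ℤ) := (HomotopyCategory.quotient _ _).obj M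
  exact ⟨(DCoh.RpushEt X f).mapIso (e.symm ≪≫ ((DerivedCategory.quotientCompQhIso _).app M).symm) ≪≫
    (asIso (β.app P)).symm ≪≫
    DerivedCategory.Qh.mapIso (((EtCoh.push f).mapHomotopyCategoryFactors (ComplexShape.up ℤ)).app M) ≪≫
    (DerivedCategory.quotientCompQhIso _).app _⟩

/-- Composition of derived direct images, on bounded below objects. -/
theorem nonempty_Rpush_comp {T P S : Scheme.{u}} (q : T ⟶ P) (p : P ⟶ S) (r : T ⟶ S) (hr : q ≫ p = r)
    [DCoh.HasRpushEt T q] [DCoh.HasRpushEt P p] [DCoh.HasRpushEt T r] (E : DCoh.DEt T) (a : ℤ) [E.IsGE a] :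
    Nonempty ((DCoh.RpushEt P p).obj ((DCoh.RpushEt T q).obj E) ≅ (DCoh.RpushEt T r).obj E) := by
  subst hr
  obtain ⟨K, _, ⟨e₀⟩⟩ := DerivedCategory.exists_iso_Q_obj_of_isGE E a
  obtain ⟨I, s, hs, hinj, hge⟩ := CochainComplex.Plus.modelCategoryQuillen.exists_quasiIso_injective K a
  haveI : ∀ k, Injective (I.X k) := hinj
  haveI : IsIso (DerivedCategory.Q.map s) := (DerivedCategory.isIso_Q_map_iff_quasiIso _ s).2 inferInstance
  let eI : DerivedCategory.Q.obj I ≅ E := (asIso (DerivedCategory.Q.map s)).symm ≪≫ e₀.symm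
  haveI := isStrictlyGE_map (EtCoh.push q) I a
  haveI : (EtCoh.push p).IsRightAdjoint := ⟨_, ⟨EtCoh.pullPushAdj p⟩⟩
  haveI : (EtCoh.push q).IsRightAdjoint := ⟨_, ⟨EtCoh.pullPushAdj q⟩⟩
  haveI : (EtCoh.push (q ≫ p)).IsRightAdjoint := ⟨_, ⟨EtCoh.pullPushAdj (q ≫ p)⟩⟩
  obtain ⟨e₁⟩ := nonempty_Rpush_Q q I a (fun i => AcyclicLES.isAcyclic_of_injective _ _) eI
  obtain ⟨e₂⟩ := nonempty_Rpush_Q p _ a (fun i => by
    haveI : Injective ((((EtCoh.push q).mapHomologicalComplex (ComplexShape.up ℤ)).obj I).X i) :=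
      Injective.injective_of_adjoint (EtCoh.pullPushAdj q) (I.X i)
    exact AcyclicLES.isAcyclic_of_injective _ _) e₁.symm
  obtain ⟨e₃⟩ := nonempty_Rpush_Q (q ≫ p) I a (fun i => AcyclicLES.isAcyclic_of_injective _ _) eI
  let e₄ : ((EtCoh.push p).mapHomologicalComplex (ComplexShape.up ℤ)).obj
      (((EtCoh.push q).mapHomologicalComplex (ComplexShape.up ℤ)).obj I) ≅
      ((EtCoh.push (q ≫ p)).mapHomologicalComplex (ComplexShape.up ℤ)).obj I :=
    HomologicalComplex.Hom.isoOfComponents (fun i => (EtCoh.pushComp p q).app (I.X i))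
      (fun i j _ => ((EtCoh.pushComp p q).hom.naturality (I.d i j)).symm)
  exact ⟨e₂ ≪≫ DerivedCategory.Q.mapIso e₄ ≪≫ e₃.symm⟩

section Shriek

variable {X T : Scheme.{u}} (j : X ⟶ T) [IsSeparated j] [LocallyOfFiniteType j] [LocallyQuasiFinite j]

theorem lowerShriek_preservesFiniteLimits : PreservesFiniteLimits (EtShriek.lowerShriek j) :=
  (shortExact_map_lowerShriek j).1

theorem lowerShriek_preservesFiniteColimits : PreservesFiniteColimits (EtShriek.lowerShriek j) :=
  (shortExact_map_lowerShriek j).2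

attribute [local instance] lowerShriek_preservesFiniteLimits lowerShriek_preservesFiniteColimits

theorem lowerShriek_additive : (EtShriek.lowerShriek j).Additive :=
  Functor.additive_of_preserves_binary_products _

attribute [local instance] lowerShriek_additive

/-- `j_!` on derived categories. -/
noncomputable def shD : DCoh.DEt X ⥤ DCoh.DEt T := (EtShriek.lowerShriek j).mapDerivedCategory

/-- `j_!` at a complex. -/
noncomputable def shDQ (L : CochainComplex (EtCoh.Ab X) ℤ) {E : DCoh.DEt X} (e : DerivedCategory.Q.obj L ≅ E) :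
    (shD j).obj E ≅ DerivedCategory.Q.obj (((EtShriek.lowerShriek j).mapHomologicalComplex (ComplexShape.up ℤ)).obj L) :=
  mapQ (EtShriek.lowerShriek j) L e

theorem isGE_shD (E : DCoh.DEt X) (a : ℤ) [E.IsGE a] : ((shD j).obj E).IsGE a :=
  isGE_map (EtShriek.lowerShriek j) E a

theorem isTorsion_shD (E : DCoh.DEt X) (hE : ∀ i : ℤ, EtCoh.IsTorsion (DCoh.HDEt E i)) (i : ℤ) :
    EtCoh.IsTorsion (DCoh.HDEt ((shD j).obj E) i) := by
  obtain ⟨e⟩ := BCMap.nonempty_homology_mapDerivedCategory (EtShriek.lowerShriek j) E i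
  exact H18Et.Coh.isTorsion_of_iso e.symm (isTorsion_lowerShriek j _ (hE i))

/-- `j_! = extension by zero` on derived categories. -/
theorem nonempty_extZeroD_iso {U : Scheme.{u}} (k : U ⟶ T) [IsOpenImmersion k] [LocallyQuasiFinite k]
    [PreservesFiniteLimits (EtShriek.extZero k)] (E : DCoh.DEt U) :
    Nonempty ((DEt.extZeroD k).obj E ≅ (shD k).obj E) := by
  let L := DerivedCategory.Q.objPreimage E
  let eL : DerivedCategory.Q.obj L ≅ E := DerivedCategory.Q.objObjPreimageIso E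
  exact ⟨mapQ (EtShriek.extZero k) L eL ≪≫ DerivedCategory.Q.mapIso (complexIso (extZeroIso k) L) ≪≫
    (shDQ k L eL).symm⟩

/-- Composition of the functors `j_!`. -/
theorem nonempty_shD_comp {W : Scheme.{u}} (g : T ⟶ W) [IsSeparated g] [LocallyOfFiniteType g]
    [LocallyQuasiFinite g] (r : X ⟶ W) [IsSeparated r] [LocallyOfFiniteType r] [LocallyQuasiFinite r]
    (hr : j ≫ g = r) (E : DCoh.DEt X) :
    Nonempty ((shD g).obj ((shD j).obj E) ≅ (shD r).obj E) := by
  subst hr
  let L := DerivedCategory.Q.objPreimage E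
  let eL : DerivedCategory.Q.obj L ≅ E := DerivedCategory.Q.objObjPreimageIso E
  exact ⟨shDQ g _ (shDQ j L eL).symm ≪≫ DerivedCategory.Q.mapIso
    (complexIso (lowerShriekCompIso j g) L) ≪≫ (shDQ (j ≫ g) L eL).symm⟩

end Shriek

section Proper

attribute [local instance] lowerShriek_preservesFiniteLimits lowerShriek_preservesFiniteColimits
  lowerShriek_additive

variable (hbc : StalkBC.{u})

include hbc in
/-- `Rq_* j''_! = j_!` for `q` proper with `j'' ≫ q = j`. -/
theorem nonempty_Rpush_shD {X P T : Scheme.{u}} (j : X ⟶ P) [IsSeparated j] [LocallyOfFiniteType j]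
    [LocallyQuasiFinite j] (j'' : X ⟶ T) [IsSeparated j''] [LocallyOfFiniteType j''] [LocallyQuasiFinite j'']
    (q : T ⟶ P) [IsProper q] (w : j'' ≫ q = j) [DCoh.HasRpushEt T q] (E : DCoh.DEt X) (a : ℤ) [E.IsGE a]
    (hE : ∀ i : ℤ, EtCoh.IsTorsion (DCoh.HDEt E i)) :
    Nonempty ((DCoh.RpushEt T q).obj ((shD j'').obj E) ≅ (shD j).obj E) := by
  obtain ⟨L, hL, ⟨eL⟩, ht, -⟩ := BCMap.exists_torsion_resolution E a hE
  haveI := hL
  haveI := isStrictlyGE_map (EtShriek.lowerShriek j'') L a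
  obtain ⟨e⟩ := nonempty_Rpush_Q q _ a (fun i n hn =>
    isZero_Rpush_lowerShriek q j (𝟙 X) j'' hbc (w.trans (Category.id_comp j).symm) (L.X i) (ht i) n
      (S3054.result (𝟙 X) (L.X i) n hn)) (shDQ j'' L eL).symm
  let θ : EtShriek.lowerShriek j'' ⋙ EtCoh.push q ≅ EtShriek.lowerShriek j :=
    Functor.isoWhiskerLeft _ (shriekPushIso q).symm ≪≫ lowerShriekCompIso j'' q ≪≫ eqToIso (by subst w; rfl)
  exact ⟨e ≪≫ DerivedCategory.Q.mapIso (complexIso θ L) ≪≫ (shDQ j L eL).symm⟩

include hbc in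
/-- `g_!` commutes with proper direct images. -/
theorem nonempty_shD_Rpush {X Y X' Y' : Scheme.{u}} (f : X ⟶ Y) (g : Y' ⟶ Y) (f' : X' ⟶ Y') (g' : X' ⟶ X)
    [IsProper f] [IsProper f'] [IsSeparated g] [LocallyOfFiniteType g] [LocallyQuasiFinite g]
    [IsSeparated g'] [LocallyOfFiniteType g'] [LocallyQuasiFinite g'] (w : g' ≫ f = f' ≫ g)
    [DCoh.HasRpushEt X f] [DCoh.HasRpushEt X' f'] (E : DCoh.DEt X') (a : ℤ) [E.IsGE a]
    (hE : ∀ i : ℤ, EtCoh.IsTorsion (DCoh.HDEt E i)) :
    Nonempty ((shD g).obj ((DCoh.RpushEt X' f').obj E) ≅ (DCoh.RpushEt X f).obj ((shD g').obj E)) := by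
  obtain ⟨L, hL, ⟨eL⟩, ht, hac⟩ := BCMap.exists_torsion_resolution E a hE
  haveI := hL
  haveI := isStrictlyGE_map (EtShriek.lowerShriek g') L a
  obtain ⟨e⟩ := nonempty_Rpush_Q f' L a (fun i n hn => hac f' i n hn) eL
  obtain ⟨e'⟩ := nonempty_Rpush_Q f _ a (fun i n hn =>
    isZero_Rpush_lowerShriek f g f' g' hbc w (L.X i) (ht i) n (hac f' i n hn)) (shDQ g' L eL).symm
  exact ⟨shDQ g _ e.symm ≪≫ DerivedCategory.Q.mapIso (complexIso (degZeroIso f g f' g' w) L) ≪≫ e'.symm⟩

include hbc in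
/-- Independence of the compactification. -/
theorem nonempty_independent {X P P' S : Scheme.{u}} (j : X ⟶ P) [IsSeparated j] [LocallyOfFiniteType j]
    [LocallyQuasiFinite j] (p : P ⟶ S) [IsProper p] (j' : X ⟶ P') [IsSeparated j'] [LocallyOfFiniteType j']
    [LocallyQuasiFinite j'] (p' : P' ⟶ S) [IsProper p'] (w : j ≫ p = j' ≫ p')
    [DCoh.HasRpushEt P p] [DCoh.HasRpushEt P' p'] (E : DCoh.DEt X) (a : ℤ) [E.IsGE a]
    (hE : ∀ i : ℤ, EtCoh.IsTorsion (DCoh.HDEt E i)) :
    Nonempty ((DCoh.RpushEt P p).obj ((shD j).obj E) ≅ (DCoh.RpushEt P' p').obj ((shD j').obj E)) := by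
  let j'' : X ⟶ pullback p p' := pullback.lift j j' w
  have h₁ : j'' ≫ pullback.fst p p' = j := pullback.lift_fst _ _ _
  have h₂ : j'' ≫ pullback.snd p p' = j' := pullback.lift_snd _ _ _
  haveI : IsSeparated (j'' ≫ pullback.fst p p') := by rw [h₁]; infer_instance
  haveI : LocallyOfFiniteType (j'' ≫ pullback.fst p p') := by rw [h₁]; infer_instance
  haveI : LocallyQuasiFinite (j'' ≫ pullback.fst p p') := by rw [h₁]; infer_instance
  haveI : IsSeparated j'' := IsSeparated.of_comp j'' (pullback.fst p p')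
  haveI : LocallyOfFiniteType j'' := locallyOfFiniteType_of_comp j'' (pullback.fst p p')
  haveI : LocallyQuasiFinite j'' := LocallyQuasiFinite.of_comp j'' (pullback.fst p p')
  obtain ⟨a₁⟩ := nonempty_Rpush_shD hbc j j'' (pullback.fst p p') h₁ E a hE
  obtain ⟨a₂⟩ := nonempty_Rpush_shD hbc j' j'' (pullback.snd p p') h₂ E a hE
  haveI := isGE_shD j'' E a
  obtain ⟨c₁⟩ := nonempty_Rpush_comp (pullback.fst p p') p _ rfl ((shD j'').obj E) a
  obtain ⟨c₂⟩ := nonempty_Rpush_comp (pullback.snd p p') p' (pullback.fst p p' ≫ p) pullback.condition.symm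
    ((shD j'').obj E) a
  exact ⟨(DCoh.RpushEt P p).mapIso a₁.symm ≪≫ c₁ ≪≫ c₂.symm ≪≫ (DCoh.RpushEt P' p').mapIso a₂⟩

include hbc in
/-- Proper base change, objectwise. -/
theorem nonempty_pull_Rpush {X S X' S' : Scheme.{u}} (f : X ⟶ S) (g : S' ⟶ S) (f' : X' ⟶ S') (g' : X' ⟶ X)
    (h : IsPullback g' f' f g) [IsProper f] [DCoh.HasRpushEt X f] [DCoh.HasRpushEt X' f']
    [PreservesFiniteLimits (EtCoh.pull g)] [PreservesFiniteLimits (EtCoh.pull g')]
    (E : DCoh.DEt X) (a : ℤ) [E.IsGE a] (hE : ∀ i : ℤ, EtCoh.IsTorsion (DCoh.HDEt E i)) :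
    Nonempty ((EtCoh.pull g).mapDerivedCategory.obj ((DCoh.RpushEt X f).obj E) ≅
      (DCoh.RpushEt X' f').obj ((EtCoh.pull g').mapDerivedCategory.obj E)) := by
  obtain ⟨L, hL, ⟨eL⟩, ht, hac⟩ := BCMap.exists_torsion_resolution E a hE
  haveI := hL
  haveI := isStrictlyGE_map (EtCoh.pull g') L a
  obtain ⟨e⟩ := nonempty_Rpush_Q f L a (fun i n hn => hac f i n hn) eL
  obtain ⟨e'⟩ := nonempty_Rpush_Q f' _ a (fun i n hn =>
    isZero_Rpush_pull hbc f f' g g' h (L.X i) (ht i) n (hac f i n hn)) (mapQ (EtCoh.pull g') L eL).symm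
  let τ : EtCoh.push f ⋙ EtCoh.pull g ⟶ EtCoh.pull g' ⋙ EtCoh.push f' :=
    Functor.whiskerRight (EtBC.pushToPushPull f g f' g' h.w) (EtCoh.pull g) ≫
      Functor.whiskerLeft (EtCoh.pull g' ⋙ EtCoh.push f') (EtCoh.pullPushAdj g).counit
  haveI : IsIso τ := @NatIso.isIso_of_isIso_app _ _ _ _ _ _ τ fun F => by
    haveI := S0157.result f f' g' g h F
    show IsIso ((EtCoh.pull g).map ((EtBC.pushToPushPull f g f' g' h.w).app F) ≫
      (EtCoh.pullPushAdj g).counit.app _)
    rw [BCMap.pushToPushPull_transpose]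
    infer_instance
  exact ⟨mapQ (EtCoh.pull g) _ e.symm ≪≫ DerivedCategory.Q.mapIso (complexIso (asIso τ) L) ≪≫ e'.symm⟩

/-- `g^*` commutes with `j_!`. -/
theorem nonempty_pull_shD {X Y X' Y' : Scheme.{u}} (f : X ⟶ Y) (g : Y' ⟶ Y) (f' : X' ⟶ Y') (g' : X' ⟶ X)
    (h : IsPullback g' f' f g) [IsSeparated f] [LocallyOfFiniteType f] [LocallyQuasiFinite f]
    [IsSeparated f'] [LocallyOfFiniteType f'] [LocallyQuasiFinite f']
    [PreservesFiniteLimits (EtCoh.pull g)] [PreservesFiniteLimits (EtCoh.pull g')] (E : DCoh.DEt X) :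
    Nonempty ((EtCoh.pull g).mapDerivedCategory.obj ((shD f).obj E) ≅
      (shD f').obj ((EtCoh.pull g').mapDerivedCategory.obj E)) := by
  let L := DerivedCategory.Q.objPreimage E
  let eL : DerivedCategory.Q.obj L ≅ E := DerivedCategory.Q.objObjPreimageIso E
  haveI : IsIso (bcHom h) := @NatIso.isIso_of_isIso_app _ _ _ _ _ _ (bcHom h) fun F => bc_main f g f' g' h F
  let θ : EtShriek.lowerShriek f ⋙ EtCoh.pull g ≅ EtCoh.pull g' ⋙ EtShriek.lowerShriek f' :=
    Functor.isoWhiskerRight (shriekIso f) _ ≪≫ asIso (bcHom h) ≪≫ Functor.isoWhiskerLeft _ (shriekIso f').symm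
  exact ⟨mapQ (EtCoh.pull g) _ (shDQ f L eL).symm ≪≫ DerivedCategory.Q.mapIso (complexIso θ L) ≪≫
    (shDQ f' _ (mapQ (EtCoh.pull g') L eL).symm).symm⟩

end Proper

end Groth.Agent.H15Site.RshriekInd
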