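import Groth.Agent.H15Site.RshriekInd.Derived

/-!
# `Rf_!`: independence of the compactification, composition, base change
-/

set_option autoImplicit false
set_option linter.style.haveILetI false
set_option linter.unusedSectionVars false
set_option linter.overlappingInstances false
set_option backward.isDefEq.respectTransparency false
set_option backward.isDefEq.respectTransparency.types false

universe u

open CategoryTheory CategoryTheory.Limits AlgebraicGeometry
open scoped Groth.Agent.H18Et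

namespace Groth.Agent.H15Site.RshriekInd

attribute [local instance] HasDerivedCategory.standard Groth.Agent.H18Et.pull_preservesFiniteLimits hasRpushEt
  lowerShriek_preservesFiniteLimits lowerShriek_preservesFiniteColimits lowerShriek_additive

/-- `Rf_!` as direct image of `j_!`. -/
theorem nonempty_Rshriek_shD {X Y : Scheme.{u}} {f : X ⟶ Y} (c : DEt.Compactification f)
    [PreservesFiniteLimits (EtShriek.extZero c.j)] [DCoh.HasRpushEt c.Xbar c.fbar] (E : DCoh.DEt X) :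
    Nonempty ((DEt.Rshriek c).obj E ≅ (DCoh.RpushEt c.Xbar c.fbar).obj ((shD c.j).obj E)) := by
  obtain ⟨e⟩ := nonempty_extZeroD_iso c.j E
  exact ⟨(DCoh.RpushEt c.Xbar c.fbar).mapIso e⟩

variable (hbc : Shriek.StalkBC.{u}) {X Y : Scheme.{u}}

include hbc in
/-- **Independence of the compactification.** -/
theorem nonempty_Rshriek_independent {f : X ⟶ Y} (c : DEt.Compactification f)
    [PreservesFiniteLimits (EtShriek.extZero c.j)] [DCoh.HasRpushEt c.Xbar c.fbar] (c' : DEt.Compactification f)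
    [PreservesFiniteLimits (EtShriek.extZero c'.j)] [DCoh.HasRpushEt c'.Xbar c'.fbar] (E : DCoh.DEt X) (a : ℤ)
    [E.IsGE a] (hE : ∀ i : ℤ, EtCoh.IsTorsion (DCoh.HDEt E i)) :
    Nonempty ((DEt.Rshriek c).obj E ≅ (DEt.Rshriek c').obj E) := by
  obtain ⟨e⟩ := nonempty_Rshriek_shD c E
  obtain ⟨e'⟩ := nonempty_Rshriek_shD c' E
  obtain ⟨m⟩ := nonempty_independent hbc c.j c.fbar c'.j c'.fbar (c.fac.trans c'.fac.symm) E a hE
  exact ⟨e ≪≫ m ≪≫ e'.symm⟩

include hbc in
/-- **Composition.** -/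
theorem nonempty_Rshriek_comp {Z : Scheme.{u}} {f : X ⟶ Y} {g : Y ⟶ Z} (c : DEt.Compactification f)
    [PreservesFiniteLimits (EtShriek.extZero c.j)] [DCoh.HasRpushEt c.Xbar c.fbar] (d : DEt.Compactification g)
    [PreservesFiniteLimits (EtShriek.extZero d.j)] [DCoh.HasRpushEt d.Xbar d.fbar]
    (e : DEt.Compactification (f ≫ g)) [PreservesFiniteLimits (EtShriek.extZero e.j)]
    [DCoh.HasRpushEt e.Xbar e.fbar] (E : DCoh.DEt X) (a : ℤ) [E.IsGE a]
    (hE : ∀ i : ℤ, EtCoh.IsTorsion (DCoh.HDEt E i)) :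
    Nonempty ((DEt.Rshriek d).obj ((DEt.Rshriek c).obj E) ≅ (DEt.Rshriek e).obj E) := by
  let v : pullback e.fbar d.fbar ⟶ d.Xbar := pullback.snd e.fbar d.fbar
  have hw : e.j ≫ e.fbar = (f ≫ d.j) ≫ d.fbar := by rw [e.fac, Category.assoc, d.fac]
  let jT : X ⟶ pullback e.fbar d.fbar := pullback.lift e.j (f ≫ d.j) hw
  have hT : jT ≫ pullback.fst e.fbar d.fbar = e.j := pullback.lift_fst _ _ _
  let ι : pullback v d.j ⟶ pullback e.fbar d.fbar := pullback.fst v d.j
  let pY : pullback v d.j ⟶ Y := pullback.snd v d.j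
  let jY : X ⟶ pullback v d.j := pullback.lift jT f (pullback.lift_snd _ _ _)
  have hY : jY ≫ ι = jT := pullback.lift_fst _ _ _
  have hY' : jY ≫ pY = f := pullback.lift_snd _ _ _
  haveI : IsSeparated (jT ≫ pullback.fst e.fbar d.fbar) := by rw [hT]; infer_instance
  haveI : LocallyOfFiniteType (jT ≫ pullback.fst e.fbar d.fbar) := by rw [hT]; infer_instance
  haveI : LocallyQuasiFinite (jT ≫ pullback.fst e.fbar d.fbar) := by rw [hT]; infer_instance
  haveI : IsSeparated jT := IsSeparated.of_comp jT (pullback.fst e.fbar d.fbar)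
  haveI : LocallyOfFiniteType jT := locallyOfFiniteType_of_comp jT (pullback.fst e.fbar d.fbar)
  haveI : LocallyQuasiFinite jT := LocallyQuasiFinite.of_comp jT (pullback.fst e.fbar d.fbar)
  haveI : IsSeparated (jY ≫ ι) := by rw [hY]; infer_instance
  haveI : LocallyOfFiniteType (jY ≫ ι) := by rw [hY]; infer_instance
  haveI : LocallyQuasiFinite (jY ≫ ι) := by rw [hY]; infer_instance
  haveI : IsSeparated jY := IsSeparated.of_comp jY ι
  haveI : LocallyOfFiniteType jY := locallyOfFiniteType_of_comp jY ι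
  haveI : LocallyQuasiFinite jY := LocallyQuasiFinite.of_comp jY ι
  haveI : IsProper v := inferInstance
  haveI : IsProper pY := inferInstance
  obtain ⟨c₀⟩ := nonempty_Rshriek_shD c E
  obtain ⟨c₁⟩ := nonempty_independent hbc c.j c.fbar jY pY (c.fac.trans hY'.symm) E a hE
  obtain ⟨d₀⟩ := nonempty_Rshriek_shD d ((DCoh.RpushEt _ pY).obj ((shD jY).obj E))
  haveI := isGE_shD jY E a
  obtain ⟨x₁⟩ := nonempty_shD_Rpush hbc v d.j pY ι pullback.condition ((shD jY).obj E) a (isTorsion_shD jY E hE)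
  obtain ⟨x₂⟩ := nonempty_shD_comp jY ι jT hY E
  haveI := isGE_shD jT E a
  obtain ⟨x₃⟩ := nonempty_Rpush_comp v d.fbar (pullback.fst e.fbar d.fbar ≫ e.fbar) pullback.condition.symm
    ((shD jT).obj E) a
  obtain ⟨x₄⟩ := nonempty_Rpush_comp (pullback.fst e.fbar d.fbar) e.fbar _ rfl ((shD jT).obj E) a
  obtain ⟨x₅⟩ := nonempty_Rpush_shD hbc e.j jT (pullback.fst e.fbar d.fbar) hT E a hE
  obtain ⟨e₀⟩ := nonempty_Rshriek_shD e E
  exact ⟨(DEt.Rshriek d).mapIso (c₀ ≪≫ c₁) ≪≫ d₀ ≪≫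
    (DCoh.RpushEt d.Xbar d.fbar).mapIso (x₁ ≪≫ (DCoh.RpushEt _ v).mapIso x₂) ≪≫ x₃ ≪≫ x₄.symm ≪≫
    (DCoh.RpushEt e.Xbar e.fbar).mapIso x₅ ≪≫ e₀.symm⟩

include hbc in
/-- **Base change.** -/
theorem nonempty_Rshriek_baseChange {X' Y' : Scheme.{u}} {f : X ⟶ Y} {g : Y' ⟶ Y} {f' : X' ⟶ Y'} {g' : X' ⟶ X}
    (hc : IsPullback g' f' f g) (c : DEt.Compactification f)
    [PreservesFiniteLimits (EtShriek.extZero c.j)] [DCoh.HasRpushEt c.Xbar c.fbar]
    (c' : DEt.Compactification f') [PreservesFiniteLimits (EtShriek.extZero c'.j)]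
    [DCoh.HasRpushEt c'.Xbar c'.fbar] [PreservesFiniteLimits (EtCoh.pull g)]
    [PreservesFiniteLimits (EtCoh.pull g')] (E : DCoh.DEt X) (a : ℤ) [E.IsGE a]
    (hE : ∀ i : ℤ, EtCoh.IsTorsion (DCoh.HDEt E i)) :
    Nonempty ((EtCoh.pull g).mapDerivedCategory.obj ((DEt.Rshriek c).obj E) ≅
      (DEt.Rshriek c').obj ((EtCoh.pull g').mapDerivedCategory.obj E)) := by
  let P' := pullback c.fbar g
  let g'' : P' ⟶ c.Xbar := pullback.fst c.fbar g
  let fb : P' ⟶ Y' := pullback.snd c.fbar g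
  have hw : (g' ≫ c.j) ≫ c.fbar = f' ≫ g := by rw [Category.assoc, c.fac, hc.w]
  let jb : X' ⟶ P' := pullback.lift (g' ≫ c.j) f' hw
  have hjb : jb ≫ fb = f' := pullback.lift_snd _ _ _
  have sqj : IsPullback g' jb c.j g'' := by
    refine IsPullback.of_bot (v₂₁ := fb) (v₂₂ := c.fbar) (h₃₁ := g) ?_ (pullback.lift_fst _ _ _).symm
      (IsPullback.of_hasPullback c.fbar g)
    rw [hjb, c.fac]
    exact hc
  haveI : IsOpenImmersion jb := MorphismProperty.of_isPullback sqj inferInstance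
  obtain ⟨e₀⟩ := nonempty_Rshriek_shD c E
  haveI := isGE_shD c.j E a
  obtain ⟨e₁⟩ := nonempty_pull_Rpush hbc c.fbar g fb g'' (IsPullback.of_hasPullback c.fbar g) ((shD c.j).obj E) a
    (isTorsion_shD c.j E hE)
  obtain ⟨e₂⟩ := nonempty_pull_shD c.j g'' jb g' sqj E
  haveI := isGE_map (EtCoh.pull g') E a
  have hE' : ∀ i : ℤ, EtCoh.IsTorsion (DCoh.HDEt ((EtCoh.pull g').mapDerivedCategory.obj E) i) := fun i => by
    obtain ⟨h⟩ := BCMap.nonempty_homology_mapDerivedCategory (EtCoh.pull g') E i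
    exact H18Et.Coh.isTorsion_of_iso h.symm (H18Et.Coh.isTorsion_pull g' _ (hE i))
  obtain ⟨e₃⟩ := nonempty_independent hbc jb fb c'.j c'.fbar (hjb.trans c'.fac.symm)
    ((EtCoh.pull g').mapDerivedCategory.obj E) a hE'
  obtain ⟨e₄⟩ := nonempty_Rshriek_shD c' ((EtCoh.pull g').mapDerivedCategory.obj E)
  exact ⟨(EtCoh.pull g).mapDerivedCategory.mapIso e₀ ≪≫ e₁ ≪≫ (DCoh.RpushEt P' fb).mapIso e₂ ≪≫ e₃ ≪≫ e₄.symm⟩

end Groth.Agent.H15Site.RshriekInd
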